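import Cfsg.Agent.H556.FD.Par

/-!
# Reflections interchange the two families of maximal totally singular subspaces (helper179)

* `finrank_inf_refl` : `dim (U ∩ r_v U) = m - 1` for a totally singular subspace `U` of dimension `m` of a space of
  dimension `2 m`;
* `refl_ne_of_mem_E` : `g U ≠ r_v U` for `g ∈ E Q`.
-/

set_option autoImplicit false

namespace Cfsg.Agent.H179.XZ

open Module QuadraticMap
open Cfsg.Agent.LieClassical.OrthCore
open Cfsg.Agent.H556.FD (polar_eq_zero_of_ts finrank_le_of_ts even_of_mem_E nd)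

variable {F V : Type*} [Field F] [AddCommGroup V] [Module F V] {Q : QuadraticForm F V} [FiniteDimensional F V] {m : ℕ}

/-- `dim (U ∩ r_v U) = m - 1` -/
theorem finrank_inf_refl (hQ : Nondeg Q) (hV : finrank F V = 2 * m) {v : V} (hv : Q v ≠ 0) {U : Submodule F V}
    (hU : finrank F U = m) (hU0 : ∀ u ∈ U, Q u = 0) :
    finrank F ↥(U ⊓ U.map (refl Q v hv : V →ₗ[F] V)) + 1 = m := by
  set K := LinearMap.ker (polarBilin Q v) with hK
  have hKe : U ⊓ U.map (refl Q v hv : V →ₗ[F] V) = U ⊓ K := by
    ext x
    constructor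
    · rintro ⟨hx, y, hy, e⟩
      have e' : refl Q v hv y = x := e
      rw [refl_apply] at e'
      by_cases h0 : polar Q v y = 0
      · rw [h0, mul_zero, zero_smul, sub_zero] at e'
        exact ⟨hx, by rw [← e']; exact h0⟩
      · exfalso
        have h1 : ((Q v)⁻¹ * polar Q v y) • v ∈ U := by
          have e2 : ((Q v)⁻¹ * polar Q v y) • v = y - x := by rw [← e']; abel
          rw [e2]
          exact U.sub_mem hy hx
        have h2 : v ∈ U := (Submodule.smul_mem_iff _ (mul_ne_zero (inv_ne_zero hv) h0)).1 h1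
        exact hv (hU0 v h2)
    · rintro ⟨hx, hxK⟩
      refine ⟨hx, x, hx, ?_⟩
      have h0 : polar Q v x = 0 := hxK
      show refl Q v hv x = x
      rw [refl_apply, h0, mul_zero, zero_smul, sub_zero]
  rw [hKe]
  -- the dimension of the kernel
  have h1 := Submodule.finrank_sup_add_finrank_inf_eq U K
  have h2 := Submodule.finrank_le (U ⊔ K)
  have hKd : 2 * m ≤ finrank F K + 1 := by
    have h1 := LinearMap.finrank_range_add_finrank_ker (polarBilin Q v)
    have h2 : finrank F (LinearMap.range (polarBilin Q v)) ≤ 1 := by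
      have := Submodule.finrank_le (LinearMap.range (polarBilin Q v))
      rwa [finrank_self] at this
    rw [hV] at h1
    have h3 : finrank F K = finrank F (LinearMap.ker (polarBilin Q v)) := rfl
    omega
  have hlt : finrank F ↥(U ⊓ K) < m := by
    by_contra hcon
    push Not at hcon
    have h3 : U ⊓ K = U := Submodule.eq_of_le_of_finrank_le inf_le_left (by omega)
    have h4 : v ∈ LinearMap.BilinForm.orthogonal (polarBilin Q) U := by
      intro u hu
      have hu' : u ∈ U ⊓ K := by rw [h3]; exact hu
      have h5 : polar Q v u = 0 := hu'.2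
      show polar Q u v = 0
      rw [polar_comm]
      exact h5
    have h5 : U ≤ LinearMap.BilinForm.orthogonal (polarBilin Q) U := by
      intro x hx y hy
      exact polar_eq_zero_of_ts hU0 hy hx
    have h6 := LinearMap.BilinForm.finrank_orthogonal (nd hQ) (W := U)
    have h7 : U = LinearMap.BilinForm.orthogonal (polarBilin Q) U :=
      Submodule.eq_of_le_of_finrank_le h5 (by omega)
    rw [← h7] at h4
    exact hv (hU0 v h4)
  rw [hV] at h2
  omega

/-- **A reflection interchanges the two families.** -/
theorem refl_ne_of_mem_E (hQ : Nondeg Q) (hV : finrank F V = 2 * m) {v : V} (hv : Q v ≠ 0) {U : Submodule F V}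
    (hU : finrank F U = m) (hU0 : ∀ u ∈ U, Q u = 0) {g : V ≃ₗ[F] V} (hg : g ∈ E Q) :
    U.map (g : V →ₗ[F] V) ≠ U.map (refl Q v hv : V →ₗ[F] V) := by
  intro h
  have h1 := even_of_mem_E hQ hV hg U hU hU0
  rw [h] at h1
  have h2 := finrank_inf_refl hQ hV hv hU hU0
  rw [Nat.even_iff] at h1
  omega

end Cfsg.Agent.H179.XZ
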