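import Cfsg.Agent.H478.CC.FlagsD
import Cfsg.Agent.H116.RatB0.StAut
import Cfsg.Agent.H989.OutOrth.Basic
import Cfsg.Agent.H179.XZ.Parity

/-!
# Reflections are not type preserving on `PΩ⁺_{2(n+2)}` (helper179, for S4791 / S4927)

* `conj_PJ` : two conjugate standard parabolic subgroups are equal;
* `typ_refl` : the automorphism induced by a reflection has a nontrivial type;
* `typ_Psi` : the same for `Psi Q (rf v hv)`.
-/

set_option autoImplicit false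
set_option linter.unusedSectionVars false

namespace Cfsg.Agent.H179.XZ

open Cfsg CoxeterSystem Cfsg.Agent.ChevalleyStructure.CoxeterGeom Cfsg.Agent.Tits.Roots Cfsg.Agent.Tits.Core
  Cfsg.Agent.Tits.Exchange Cfsg.Agent.Nodes.Reps Cfsg.Agent.Nodes.BNOf Cfsg.Agent.Nodes.StabComb
  Cfsg.Agent.Nodes.Bruhat Cfsg.Agent.Nodes.OppDec Cfsg.Agent.Nodes.LeviDec Cfsg.Agent.H116.StAut Cfsg.Agent.H554.RG

section rgd

variable {I W S : Type*} [Fintype I] [DecidableEq I] [Group W] [Group S] {M : CoxeterMatrix I}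
  {cs : CoxeterSystem M W} {A : I → I → ℤ} {h : IsCartan M A} {r : ℕ} {T : Subgroup S} {n : I → S}
  {X : (I → ℤ) → Subgroup S} (R : RGD cs h r T n X)

include R in
/-- two conjugate standard parabolic subgroups are equal -/
theorem conj_PJ [Finite W] [Finite S] [Fact r.Prime] (hG : GG cs h T X = ⊤) {J J' : Set I} {g : S}
    (hg : ∀ x, x ∈ PJ cs h T X J ↔ g⁻¹ * x * g ∈ PJ cs h T X J') : J = J' ∧ g ∈ PJ cs h T X J := by
  have h1 : g ∈ PJ cs h T X J' := by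
    refine mem_of_B_le_conj R hG (P := PJ cs h T X J') B_le_PJ ?_
    intro b hb
    refine ⟨g⁻¹ * b * g, (hg b).1 (B_le_PJ hb), ?_⟩
    show MulAut.conj g (g⁻¹ * b * g) = b
    rw [MulAut.conj_apply]
    group
  have h2 : PJ cs h T X J = PJ cs h T X J' := by
    ext x
    rw [hg]
    constructor
    · intro hx
      have h3 := mul_mem (mul_mem h1 hx) (inv_mem h1)
      have e : g * (g⁻¹ * x * g) * g⁻¹ = x := by group
      rwa [e] at h3
    · intro hx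
      exact mul_mem (mul_mem (inv_mem h1) hx) h1
  exact ⟨PJ_injective R h2, h2 ▸ h1⟩

end rgd

open Cfsg.Agent.LieClassical Cfsg.Agent.LieClassical.OrthForms QuadraticMap Module
open Cfsg.Agent.LieClassical.OrthCore Cfsg.Agent.LieClassical.OrthTrans
open Cfsg.Agent.LieClassical.OrthSimple Cfsg.Agent.LieClassical.OrthFinite
open Cfsg.Agent.TitsThree Cfsg.Agent.TitsThree.KSideO Cfsg.Agent.TitsThree.WBridge Cfsg.Agent.TitsThree.WittFrame
open Cfsg.Agent.Nodes.WittInst Cfsg.Agent.Nodes.WittRoot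
open Cfsg.Agent.Nodes.TypeD
open Cfsg.Agent.Nodes.WittRGD (Tor)
open Cfsg.Agent.H439.CC (JD)
open Cfsg.Agent.H478.CC (Qp Fr std AdmQ std_eq_F)

variable {F : Type*} [Field F] {n : ℕ}

theorem JD_ne {n : ℕ} {s : Bool} (h : (JD {n + 2} true : Set (Fin (n + 2))) = JD {n + 2} s) : s = true := by
  cases s
  · exfalso
    have h1 : Fin.last (n + 1) ∈ (JD {n + 2} false : Set (Fin (n + 2))) := by
      show ((Equiv.swap (Fin.last (n + 1)) (Fin.castSucc (Fin.last n)) (Fin.last (n + 1)) : Fin (n + 2)) : ℕ) + 1 ∉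
        ({n + 2} : Finset ℕ)
      rw [Equiv.swap_apply_left, Finset.mem_singleton]
      simp
    rw [← h] at h1
    have h2 : ((Fin.last (n + 1) : Fin (n + 2)) : ℕ) + 1 ∉ ({n + 2} : Finset ℕ) := h1
    apply h2
    rw [Finset.mem_singleton]
    simp
  · rfl

/-- the stabilizer of the image -/
theorem stab_conj {F V : Type*} [Field F] [AddCommGroup V] [Module F V] (a b : V ≃ₗ[F] V) (U : Submodule F V) :
    (U.map (b : V →ₗ[F] V)).map (a : V →ₗ[F] V) = U.map (b : V →ₗ[F] V) ↔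
      U.map ((b⁻¹ * a * b : V ≃ₗ[F] V) : V →ₗ[F] V) = U := by
  rw [← H556.FD.map_mul', mul_assoc, H556.FD.map_mul' b⁻¹]
  constructor
  · intro h
    rw [h, ← H556.FD.map_mul', inv_mul_cancel]
    exact Submodule.map_id _
  · intro h
    have h1 := congrArg (Submodule.map (b : V →ₗ[F] V)) h
    rw [← H556.FD.map_mul', ← H556.FD.map_mul', mul_inv_cancel, one_mul] at h1
    exact h1

set_option maxHeartbeats 2000000 in
/-- **Reflections are not type preserving.** -/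
theorem typ_refl [Finite F] (hG : Good (Qp n F)) {p : ℕ} [Fact p.Prime] [CharP F p] {G : Type*} [Group G] [Finite G]
    [Finite (Cfsg.POmega F ⇑(Qp n F))] (cs : CoxeterSystem (Cfsg.Agent.Nodes.TypeD.M n) G)
    (R : RGD cs (isCartan n) p (((Tor (Fr n F) (E (Qp n F))).subgroupOf (E (Qp n F))).map (toPOmega hG))
      (fun i => toPOmega hG ⟨Cfsg.Agent.Nodes.WittRGDD.nn (Fr n F) i,
        Cfsg.Agent.Nodes.WittRGDD.nn_mem (amb_plus (n + 2)) i⟩) (XD (wplus (n + 2) F) (toPOmega hG)))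
    (hGG : GG cs (isCartan n) (((Tor (Fr n F) (E (Qp n F))).subgroupOf (E (Qp n F))).map (toPOmega hG))
      (XD (wplus (n + 2) F) (toPOmega hG)) = ⊤)
    {v : Fin (n + 2) ⊕ Fin (n + 2) → F} (hv : Qp n F v ≠ 0) (α : MulAut (Cfsg.POmega F ⇑(Qp n F)))
    (hα : ∀ g g' : E (Qp n F), g'.1 = refl (Qp n F) v hv * g.1 * (refl (Qp n F) v hv)⁻¹ →
      α (toPOmega hG g) = toPOmega hG g') : typHom R hGG α ≠ 1 := by
  classical
  intro h1
  set r : (Fin (n + 2) ⊕ Fin (n + 2) → F) ≃ₗ[F] (Fin (n + 2) ⊕ Fin (n + 2) → F) := refl (Qp n F) v hv with hr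
  have hrO : r ∈ O (Qp n F) := refl_mem_O hv
  have hfr : ∀ s : Bool, finrank F (H556.FD.stdF (Fr n F) s (n + 2)) = n + 2 := fun s =>
    H556.FD.finrank_stdF s le_rfl
  have hts : ∀ s : Bool, ∀ u ∈ H556.FD.stdF (Fr n F) s (n + 2), Qp n F u = 0 := fun s =>
    H556.FD.stdF_ts (wplus (n + 2) F) s (n + 2)
  have hQ : Nondeg (Qp n F) := nondeg_plusForm (n + 2) F
  have hV := H556.FD.finrank_V (wplus (n + 2) F) (adm_plus (n + 2))
  have hpj : ∀ (s : Bool) (g : E (Qp n F)),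
      toPOmega hG g ∈ PJ cs (isCartan n) (((Tor (Fr n F) (E (Qp n F))).subgroupOf (E (Qp n F))).map (toPOmega hG))
        (XD (wplus (n + 2) F) (toPOmega hG)) (JD {n + 2} s) ↔
      (H556.FD.stdF (Fr n F) s (n + 2)).map
        (g.1 : (Fin (n + 2) ⊕ Fin (n + 2) → F) →ₗ[F] (Fin (n + 2) ⊕ Fin (n + 2) → F)) =
        H556.FD.stdF (Fr n F) s (n + 2) := by
    intro s g
    rw [H556.FD.mem_PJ_iff (wplus (n + 2) F) hG (amb_plus (n + 2)) (adm_plus (n + 2)) (p := p) cs (K := {n + 2})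
      (by
        intro k hk
        rw [Finset.mem_singleton] at hk
        rw [Finset.mem_Icc]
        omega) (Finset.mem_singleton_self _) s g]
    simp only [Finset.mem_singleton, forall_eq]
  -- the element of `α`
  have hsp : ∀ (J : Set (Fin (n + 2))) (x : Cfsg.POmega F ⇑(Qp n F)),
      (gel R hGG α)⁻¹ * α x * gel R hGG α ∈
        PJ cs (isCartan n) (((Tor (Fr n F) (E (Qp n F))).subgroupOf (E (Qp n F))).map (toPOmega hG))
        (XD (wplus (n + 2) F) (toPOmega hG)) J ↔ x ∈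
        PJ cs (isCartan n) (((Tor (Fr n F) (E (Qp n F))).subgroupOf (E (Qp n F))).map (toPOmega hG))
        (XD (wplus (n + 2) F) (toPOmega hG)) J := by
    intro J x
    have h2 := gel_spec R hGG α J x
    have h1' : typ R hGG α = 1 := h1
    rw [h1', Equiv.Perm.coe_one, Set.image_id] at h2
    exact h2
  obtain ⟨γ, hγ⟩ := toPOmega_surjective hG (gel R hGG α)
  set U := H556.FD.stdF (Fr n F) true (n + 2) with hU
  -- the image of the standard subspace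
  set k : (Fin (n + 2) ⊕ Fin (n + 2) → F) ≃ₗ[F] (Fin (n + 2) ⊕ Fin (n + 2) → F) := r⁻¹ * γ.1 with hk
  have hkO : k ∈ O (Qp n F) := mul_mem (inv_mem hrO) (E_le_O γ.2)
  set U₂ := U.map (k : (Fin (n + 2) ⊕ Fin (n + 2) → F) →ₗ[F] (Fin (n + 2) ⊕ Fin (n + 2) → F)) with hU₂
  have hfr2 : finrank F U₂ = n + 2 := (LinearEquiv.finrank_map_eq k U).trans (hfr true)
  have hts2 : ∀ u ∈ U₂, Qp n F u = 0 := H556.FD.ts_map hkO (hts true)
  obtain ⟨δ, hδ, s, hs⟩ := H560.CC.exists_std hG ({U₂} : Finset _) (by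
      rw [Finset.coe_singleton]
      exact Set.subsingleton_singleton.isChain) (by
      intro U' hU'
      rw [Finset.mem_singleton] at hU'
      rw [hU']
      exact hts2) ⟨U₂, Finset.mem_singleton_self _, hfr2⟩
  have hs2 : U₂.map (δ : (Fin (n + 2) ⊕ Fin (n + 2) → F) →ₗ[F] (Fin (n + 2) ⊕ Fin (n + 2) → F)) =
      H556.FD.stdF (Fr n F) s (n + 2) := by
    rw [hs U₂ (Finset.mem_singleton_self _), hfr2, std_eq_F]
  -- the stabilizers
  have key : ∀ g : E (Qp n F),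
      U.map (g.1 : (Fin (n + 2) ⊕ Fin (n + 2) → F) →ₗ[F] (Fin (n + 2) ⊕ Fin (n + 2) → F)) = U ↔
      U₂.map (g.1 : (Fin (n + 2) ⊕ Fin (n + 2) → F) →ₗ[F] (Fin (n + 2) ⊕ Fin (n + 2) → F)) = U₂ := by
    intro g
    obtain ⟨g', hg'⟩ : ∃ g' : E (Qp n F), g'.1 = r * g.1 * r⁻¹ := by
      exact ⟨⟨r * g.1 * r⁻¹, conj_mem_E hrO g.2⟩, rfl⟩
    have h2 := hsp (JD {n + 2} true) (toPOmega hG g)
    have e0 : (gel R hGG α)⁻¹ * α (toPOmega hG g) * gel R hGG α = toPOmega hG (γ⁻¹ * g' * γ) := by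
      rw [map_mul, map_mul, map_inv, hγ, hα g g' hg']
    rw [e0] at h2
    have h3 := ((hpj true (γ⁻¹ * g' * γ)).symm.trans h2).trans (hpj true g)
    refine h3.symm.trans ?_
    rw [hU₂, stab_conj]
    have e : ((γ⁻¹ * g' * γ : E (Qp n F)) : (Fin (n + 2) ⊕ Fin (n + 2) → F) ≃ₗ[F] (Fin (n + 2) ⊕ Fin (n + 2) → F)) =
        k⁻¹ * g.1 * k := by
      show γ.1⁻¹ * g'.1 * γ.1 = _
      rw [hg', hk]
      group
    rw [← e]
  -- the conjugate parabolic subgroups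
  have hc := conj_PJ R hGG (J := JD {n + 2} true) (J' := JD {n + 2} s) (g := (toPOmega hG ⟨δ, hδ⟩)⁻¹) (by
    intro x
    obtain ⟨g, rfl⟩ := toPOmega_surjective hG x
    rw [inv_inv, ← map_inv, ← map_mul, ← map_mul, hpj, hpj, key, ← hs2]
    have e : (((⟨δ, hδ⟩ : E (Qp n F)) * g * (⟨δ, hδ⟩ : E (Qp n F))⁻¹ : E (Qp n F)) :
        (Fin (n + 2) ⊕ Fin (n + 2) → F) ≃ₗ[F] (Fin (n + 2) ⊕ Fin (n + 2) → F)) = δ * g.1 * δ⁻¹ := rfl
    rw [e, stab_conj (δ * g.1 * δ⁻¹) δ U₂]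
    have e2 : δ⁻¹ * (δ * g.1 * δ⁻¹) * δ = g.1 := by group
    rw [e2])
  obtain ⟨hJ, hmem⟩ := hc
  have hst := JD_ne hJ
  rw [hst] at hs2
  rw [← map_inv, hpj] at hmem
  -- `U₂ = U`
  have h3 : U₂ = U := by
    have e3 : ((⟨δ, hδ⟩⁻¹ : E (Qp n F)) :
        (Fin (n + 2) ⊕ Fin (n + 2) → F) ≃ₗ[F] (Fin (n + 2) ⊕ Fin (n + 2) → F)) = δ⁻¹ := rfl
    rw [e3] at hmem
    rw [← hU] at hs2 hmem
    rw [← hmem, ← hs2, ← H556.FD.map_mul', inv_mul_cancel]
    exact (Submodule.map_id _).symm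
  -- parity
  refine refl_ne_of_mem_E hQ hV hv (hfr true) (hts true) γ.2 ?_
  rw [hU₂, hk, H556.FD.map_mul'] at h3
  have h4 := congrArg (Submodule.map (r : (Fin (n + 2) ⊕ Fin (n + 2) → F) →ₗ[F] (Fin (n + 2) ⊕ Fin (n + 2) → F))) h3
  rw [← H556.FD.map_mul', mul_inv_cancel] at h4
  have h5 : Submodule.map ((1 : (Fin (n + 2) ⊕ Fin (n + 2) → F) ≃ₗ[F] (Fin (n + 2) ⊕ Fin (n + 2) → F)) :
    (Fin (n + 2) ⊕ Fin (n + 2) → F) →ₗ[F] (Fin (n + 2) ⊕ Fin (n + 2) → F)) (U.map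
      (γ.1 : (Fin (n + 2) ⊕ Fin (n + 2) → F) →ₗ[F] (Fin (n + 2) ⊕ Fin (n + 2) → F))) = U.map
      (γ.1 : (Fin (n + 2) ⊕ Fin (n + 2) → F) →ₗ[F] (Fin (n + 2) ⊕ Fin (n + 2) → F)) := Submodule.map_id _
  rw [h5] at h4
  exact h4

end Cfsg.Agent.H179.XZ
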