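import Cfsg.Agent.H179.XZ.TypRefl
import Cfsg.Agent.H694.Diag

/-!
# The types of the automorphisms of `PΩ⁺_{2(n+2)}`, `n ≥ 3` (helper179, for S4791 / S4927)

* `typ_matrix` : the type of an automorphism preserves the Coxeter matrix;
* `typ_cases` : for `n ≥ 3` an automorphism of nontrivial type has the type of every other such automorphism;
* `typ_rf` : `typ_refl` for the automorphism `Psi Q (rf v hv)` of `P Q`, transported to `POmega`.
-/

set_option autoImplicit false
set_option linter.unusedSectionVars false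

namespace Cfsg.Agent.H179.XZ

open Cfsg CoxeterSystem Cfsg.Agent.ChevalleyStructure.CoxeterGeom Cfsg.Agent.Tits.Roots Cfsg.Agent.Tits.Core
  Cfsg.Agent.Tits.Exchange Cfsg.Agent.Nodes.Reps Cfsg.Agent.Nodes.BNOf Cfsg.Agent.Nodes.StabComb
  Cfsg.Agent.Nodes.Bruhat Cfsg.Agent.Nodes.OppDec Cfsg.Agent.Nodes.LeviDec Cfsg.Agent.H116.StAut Cfsg.Agent.H554.RG
  Cfsg.Agent.KFacts.RgdDiag

section rgd

variable {I W S : Type*} [Fintype I] [DecidableEq I] [Group W] [Group S] {M : CoxeterMatrix I}
  {cs : CoxeterSystem M W} {A : I → I → ℤ} {h : IsCartan M A} {r : ℕ} {T : Subgroup S} {n : I → S}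
  {X : (I → ℤ) → Subgroup S} (R : RGD cs h r T n X)

include R in
theorem gel_of_std [Finite W] [Finite S] [Fact r.Prime] (hG : GG cs h T X = ⊤) {a : MulAut S} {s : S}
    {σ : Equiv.Perm I} (hσ : Std cs h T X (MulAut.conj s * a) σ) : Gel cs h T X a s⁻¹ σ := by
  intro J x
  have h1 := map_PJ R hG hσ J
  rw [← h1, inv_inv]
  constructor
  · rintro ⟨y, hy, e⟩
    have h2 : y = x := (MulAut.conj s * a).injective (e.trans rfl)
    rwa [← h2]
  · intro hx
    exact ⟨x, hx, rfl⟩

/-- **The type of an automorphism preserves the Coxeter matrix.** -/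
theorem typ_matrix [Finite W] [Finite S] [Fact r.Prime] (hG : GG cs h T X = ⊤) (a : MulAut S) (i j : I) :
    M (typHom R hG a i) (typHom R hG a j) = M i j := by
  obtain ⟨s, σ, hσ⟩ := exists_std_conj R hG a
  have h1 : typHom R hG a = σ := (Gel.unique R hG (gel_spec R hG a) (gel_of_std R hG hσ)).2
  rw [h1]
  exact Diag.matrix (R := R) hσ.diag i j

end rgd

open Cfsg.Agent.Nodes

/-- a nontrivial symmetry of the diagram `D_{n+2}`, `n ≥ 3` -/
theorem perm_D {n : ℕ} (hn : 3 ≤ n) (σ : Equiv.Perm (Fin (n + 2)))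
    (hσ : ∀ i j, TypeD.M n (σ i) (σ j) = TypeD.M n i j) (h1 : σ ≠ 1) :
    σ = Equiv.swap (Fin.last (n + 1)) (Fin.castSucc (Fin.last n)) := by
  have hfix := Cfsg.Agent.H694.fix_D hn σ hσ
  have ha : σ (Fin.last (n + 1)) = Fin.last (n + 1) ∨ σ (Fin.last (n + 1)) = Fin.castSucc (Fin.last n) := by
    by_cases hlt : ((σ (Fin.last (n + 1)) : Fin (n + 2)) : ℕ) < n
    · have h2 := hfix _ hlt
      have h3 := σ.injective h2
      rw [h3] at hlt
      simp at hlt
    · have h4 := (σ (Fin.last (n + 1))).2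
      rcases Nat.lt_or_ge ((σ (Fin.last (n + 1)) : Fin (n + 2)) : ℕ) (n + 1) with h5 | h5
      · right
        apply Fin.ext
        simp only [Fin.val_castSucc, Fin.val_last]
        omega
      · left
        apply Fin.ext
        simp only [Fin.val_last]
        omega
  have hb : σ (Fin.castSucc (Fin.last n)) = Fin.last (n + 1) ∨
      σ (Fin.castSucc (Fin.last n)) = Fin.castSucc (Fin.last n) := by
    by_cases hlt : ((σ (Fin.castSucc (Fin.last n)) : Fin (n + 2)) : ℕ) < n
    · have h2 := hfix _ hlt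
      have h3 := σ.injective h2
      rw [h3] at hlt
      simp at hlt
    · have h4 := (σ (Fin.castSucc (Fin.last n))).2
      rcases Nat.lt_or_ge ((σ (Fin.castSucc (Fin.last n)) : Fin (n + 2)) : ℕ) (n + 1) with h5 | h5
      · right
        apply Fin.ext
        simp only [Fin.val_castSucc, Fin.val_last]
        omega
      · left
        apply Fin.ext
        simp only [Fin.val_last]
        omega
  have hne : (Fin.last (n + 1) : Fin (n + 2)) ≠ Fin.castSucc (Fin.last n) := by
    intro h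
    have := congrArg Fin.val h
    simp at this
  have hcase : ∀ i : Fin (n + 2), (i : ℕ) < n ∨ i = Fin.last (n + 1) ∨ i = Fin.castSucc (Fin.last n) := by
    intro i
    by_cases h2 : (i : ℕ) < n
    · exact Or.inl h2
    · right
      have h4 := i.2
      rcases Nat.lt_or_ge (i : ℕ) (n + 1) with h5 | h5
      · right
        apply Fin.ext
        simp only [Fin.val_castSucc, Fin.val_last]
        omega
      · left
        apply Fin.ext
        simp only [Fin.val_last]
        omega
  rcases ha with ha | ha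
  · exfalso
    apply h1
    ext i
    rcases hcase i with hi | rfl | rfl
    · rw [hfix i hi]; rfl
    · rw [ha]; rfl
    · rcases hb with hb | hb
      · exact absurd (σ.injective (ha.trans hb.symm)) hne
      · rw [hb]; rfl
  · have hb' : σ (Fin.castSucc (Fin.last n)) = Fin.last (n + 1) := by
      rcases hb with hb | hb
      · exact hb
      · exact absurd (σ.injective (ha.trans hb.symm)) hne
    ext i
    rcases hcase i with hi | rfl | rfl
    · rw [hfix i hi, Equiv.swap_apply_of_ne_of_ne]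
      · intro h
        rw [h] at hi
        simp at hi
      · intro h
        rw [h] at hi
        simp at hi
    · rw [ha, Equiv.swap_apply_left]
    · rw [hb', Equiv.swap_apply_right]

/-- **Two automorphisms of nontrivial type of a group of type `D_{n+2}`, `n ≥ 3`, have the same type.** -/
theorem typ_cases {n : ℕ} (hn : 3 ≤ n) {W S : Type*} [Group W] [Group S] [Finite W] [Finite S]
    {cs : CoxeterSystem (TypeD.M n) W} {A : Fin (n + 2) → Fin (n + 2) → ℤ} {h : IsCartan (TypeD.M n) A} {r : ℕ}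
    [Fact r.Prime] {T : Subgroup S} {N : Fin (n + 2) → S} {X : (Fin (n + 2) → ℤ) → Subgroup S}
    (R : RGD cs h r T N X) (hG : GG cs h T X = ⊤) {ρ : MulAut S} (hρ : typHom R hG ρ ≠ 1) (a : MulAut S) :
    typHom R hG a = 1 ∨ typHom R hG (a * ρ) = 1 ∧ typHom R hG (ρ * a) = 1 := by
  by_cases h1 : typHom R hG a = 1
  · exact Or.inl h1
  · right
    have h2 := perm_D hn _ (typ_matrix R hG a) h1
    have h3 := perm_D hn _ (typ_matrix R hG ρ) hρ
    rw [map_mul, map_mul, h2, h3, Equiv.swap_mul_self]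
    exact ⟨rfl, rfl⟩

open Cfsg.Agent.LieClassical Cfsg.Agent.LieClassical.OrthForms QuadraticMap Module
open Cfsg.Agent.LieClassical.OrthCore Cfsg.Agent.LieClassical.OrthTrans
open Cfsg.Agent.LieClassical.OrthSimple Cfsg.Agent.LieClassical.OrthFinite
open Cfsg.Agent.TitsThree Cfsg.Agent.TitsThree.KSideO Cfsg.Agent.TitsThree.WBridge Cfsg.Agent.TitsThree.WittFrame
open Cfsg.Agent.Nodes.WittInst Cfsg.Agent.Nodes.WittRoot
open Cfsg.Agent.Nodes.TypeD
open Cfsg.Agent.Nodes.WittRGD (Tor)
open Cfsg.Agent.H478.CC (Qp Fr)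
open Cfsg.Agent.ClassicalGeometry.OrthSemi Cfsg.Agent.ClassicalGeometry.OrthSemiCount
open Cfsg.Agent.ClassicalGeometry.OrthAut1 (P)
open Cfsg.Agent.H989.OutOrth.Basic
open Cfsg.Agent.AutOrth.Main (pe)

/-- the two maps onto `POmega` and `P Q` agree -/
theorem pe_toPOmega {ι : Type} [Fintype ι] [DecidableEq ι] {F : Type*} [Field F] {Q : QuadraticForm F (ι → F)}
    (hG : Good Q) (g : E Q) : pe hG (toPOmega hG g) = (g : P Q) := by
  have h1 : toPOmega hG g = (QuotientGroup.mk (toOmega hG g) : Cfsg.POmega F ⇑Q) := rfl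
  rw [h1, AutOrth.Main.pe_mk]
  congr 1
  exact (toOmega hG).symm_apply_apply g

theorem pe_symm_mk {ι : Type} [Fintype ι] [DecidableEq ι] {F : Type*} [Field F] {Q : QuadraticForm F (ι → F)}
    (hG : Good Q) (g : E Q) : (pe hG).symm (g : P Q) = toPOmega hG g := by
  rw [← pe_toPOmega, MulEquiv.symm_apply_apply]

/-- the automorphism `Psi Q M` on `POmega` -/
theorem congr_Psi {ι : Type} [Fintype ι] [DecidableEq ι] {F : Type*} [Field F] {Q : QuadraticForm F (ι → F)}
    (hG : Good Q) (M : Gam Q) (g : E Q) :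
    MulAut.congr (pe hG).symm (Psi Q M) (toPOmega hG g) = toPOmega hG (conjE Q M g) := by
  show (pe hG).symm (Psi Q M ((pe hG).symm.symm (toPOmega hG g))) = _
  rw [MulEquiv.symm_symm, pe_toPOmega, Psi_mk, pe_symm_mk]

/-- the reflection -/
theorem conjE_rf {F V : Type*} [Field F] [AddCommGroup V] [Module F V] {Q : QuadraticForm F V} {v : V} (hv : Q v ≠ 0)
    (g : E Q) : ((conjE Q (rf v hv) g : E Q) : V ≃ₗ[F] V) = refl Q v hv * g.1 * (refl Q v hv)⁻¹ := by
  rw [coe_conjE]
  ext x
  rfl

/-- **Reflections are not type preserving** (automorphism of `P Q`) -/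
theorem typ_rf {F : Type*} [Field F] {n : ℕ} [Finite F] (hG : Good (Qp n F)) {p : ℕ} [Fact p.Prime] [CharP F p]
    {G : Type*} [Group G] [Finite G]
    [Finite (Cfsg.POmega F ⇑(Qp n F))] (cs : CoxeterSystem (Cfsg.Agent.Nodes.TypeD.M n) G)
    (R : RGD cs (isCartan n) p (((Tor (Fr n F) (E (Qp n F))).subgroupOf (E (Qp n F))).map (toPOmega hG))
      (fun i => toPOmega hG ⟨Cfsg.Agent.Nodes.WittRGDD.nn (Fr n F) i,
        Cfsg.Agent.Nodes.WittRGDD.nn_mem (amb_plus (n + 2)) i⟩) (XD (wplus (n + 2) F) (toPOmega hG)))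
    (hGG : GG cs (isCartan n) (((Tor (Fr n F) (E (Qp n F))).subgroupOf (E (Qp n F))).map (toPOmega hG))
      (XD (wplus (n + 2) F) (toPOmega hG)) = ⊤)
    {v : Fin (n + 2) ⊕ Fin (n + 2) → F} (hv : Qp n F v ≠ 0) :
    typHom R hGG (MulAut.congr (pe hG).symm (Psi (Qp n F) (rf v hv))) ≠ 1 := by
  refine typ_refl hG cs R hGG hv _ ?_
  intro g g' hg'
  rw [congr_Psi]
  congr 1
  apply Subtype.ext
  rw [conjE_rf, hg']

end Cfsg.Agent.H179.XZ
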